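import Mathlib
import Cfsg.Statements.S2950
import Cfsg.Statements.S2951
import Cfsg.Agent.S2946
import Cfsg.Agent.S2948
import Cfsg.Agent.Lib.Helper81.KS12.S2950Core
import Cfsg.Agent.Lib.Helper11.KS12.Gen
import Cfsg.Agent.Lib.Helper71.JC.JCZ
import Cfsg.Agent.Lib.Helper65.EarlyCharTwo
import Cfsg.Agent.Lib.Helper47.FrakM
import Cfsg.Agent.Lib.Helper91.Coprime2

/-!
Kurzweil–Stellmacher chapter 12 cluster, statement S2951, case `T = S` (a Sylow 2-subgroup),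
part (V5) = steps (f1)+(f2) of the team plan (helper23).

Setting: `S` a Sylow 2-subgroup, `J = J(S)`, `Z₀ = Ω₁(Z(J))`, `Z = Ω₁(Z(S))`, `K` a
`J`-component with `O₂(⟨K, S⟩) ≠ 1`, `L` a maximal 2-local subgroup containing `⟨K, J⟩`.
If some 2-local subgroup containing `S` is not contained in `L`, then `Z = Z₀` and
`|Z₀| ∈ {2, 4}` (alternatives 1 and 2 of S2951).
-/

set_option autoImplicit false

namespace Cfsg.Agent.Lib.Helper23.KS12

open Cfsg

variable {G : Type*} [Group G]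

/-! ### Conjugation of (maximal) 2-local subgroups -/

theorem isTwoLocal_map_conj {N : Subgroup G} (hN : IsTwoLocal N) (g : G) :
    IsTwoLocal (N.map (MulAut.conj g).toMonoidHom) := by
  obtain ⟨T, hT, hT1, rfl⟩ := hN
  refine ⟨T.map (MulAut.conj g).toMonoidHom, hT.map _, ?_, ?_⟩
  · intro h
    apply hT1
    exact (Subgroup.map_eq_bot_iff_of_injective T (MulAut.conj g).injective).mp h
  · exact Subgroup.map_equiv_normalizer_eq T (MulAut.conj g)

theorem isMaximalTwoLocal_map_conj {L : Subgroup G} (hL : IsMaximalTwoLocal L) (g : G) :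
    IsMaximalTwoLocal (L.map (MulAut.conj g).toMonoidHom) := by
  refine ⟨isTwoLocal_map_conj hL.1 g, fun N hN hLN => ?_⟩
  have h1 : L ≤ N.map (MulAut.conj g⁻¹).toMonoidHom := by
    intro x hx
    rw [Cfsg.Agent.Lib.Helper11.mem_map_conj_iff', inv_inv]
    exact hLN ⟨x, hx, rfl⟩
  have h2 := hL.2 _ (isTwoLocal_map_conj hN g⁻¹) h1
  rw [← h2]
  ext x
  rw [Cfsg.Agent.Lib.Helper11.mem_map_conj_iff', Cfsg.Agent.Lib.Helper11.mem_map_conj_iff']
  have e : g⁻¹⁻¹ * (g⁻¹ * x * g) * g⁻¹ = x := by group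
  rw [e]

/-- `O₂` of a 2-local subgroup is nontrivial. -/
theorem pCoreOf_ne_bot_of_isTwoLocal {L : Subgroup G} (hL : IsTwoLocal L) : pCoreOf 2 L ≠ ⊥ := by
  obtain ⟨P, hP, hP1, rfl⟩ := hL
  have hPQ : P ≤ pCoreOf 2 (Subgroup.normalizer (P : Set G)) :=
    Cfsg.Agent.Lib.Helper85.KS12.le_pCoreOf_of_normal hP Subgroup.le_normalizer le_rfl
  exact fun h => hP1 (le_bot_iff.mp (h ▸ hPQ))

/-- A maximal 2-local subgroup is self-normalizing. -/
theorem mem_of_map_conj_eq {L : Subgroup G} (hL : IsMaximalTwoLocal L) {g : G}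
    (hg : L.map (MulAut.conj g).toMonoidHom = L) : g ∈ L := by
  have : Fact (Nat.Prime 2) := ⟨Nat.prime_two⟩
  have h1 : g ∈ Subgroup.normalizer (L : Set G) :=
    Cfsg.Agent.Lib.Helper11.mem_normalizer_of_map_conj_eq hg
  have h2 := Cfsg.Agent.Lib.Helper47.normalizer_le_normalizer_pCoreOf 2 L h1
  have hQ2 : IsTwoLocal (Subgroup.normalizer (pCoreOf 2 L : Set G)) :=
    ⟨_, Cfsg.Agent.Lib.Helper47.pCoreOf_isPGroup 2 L, pCoreOf_ne_bot_of_isTwoLocal hL.1, rfl⟩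
  have h3 := hL.2 _ hQ2 (Cfsg.Agent.Lib.Helper47.le_normalizer_pCoreOf 2 L)
  rw [h3] at h2
  exact h2

/-! ### Elementary facts -/

theorem le_normalizer_of_comm {A B : Subgroup G} (h : ∀ a ∈ A, ∀ b ∈ B, b * a = a * b) :
    B ≤ Subgroup.normalizer (A : Set G) := by
  intro b hb
  apply Cfsg.Agent.Lib.Helper85.KS12.mem_normalizer_of_conj_mem
  · intro x hx
    have e : b * x * b⁻¹ = x := by rw [h x hx b hb, mul_inv_cancel_right]
    rw [e]; exact hx
  · intro x hx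
    have e : b⁻¹ * x * b = x := by rw [mul_assoc, ← h x hx b hb, inv_mul_cancel_left]
    rw [e]; exact hx

theorem eq_of_card_four [Finite G] {H : Subgroup G} (h4 : Nat.card H = 4) {a b c : G}
    (ha : a ∈ H) (hb : b ∈ H) (hc : c ∈ H) (ha1 : a ≠ 1) (hb1 : b ≠ 1) (hc1 : c ≠ 1)
    (hab : a ≠ b) (hac : a ≠ c) (hbc : b ≠ c) {v : G} (hv : v ∈ H) :
    v = 1 ∨ v = a ∨ v = b ∨ v = c := by
  classical
  by_contra hcon
  push Not at hcon
  obtain ⟨h1, h2, h3, h4'⟩ := hcon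
  have hsub : (({1, a, b, c, v} : Finset G) : Set G) ⊆ (H : Set G) := by
    intro x hx
    simp only [Finset.coe_insert, Finset.coe_singleton, Set.mem_insert_iff,
      Set.mem_singleton_iff] at hx
    rcases hx with rfl | rfl | rfl | rfl | rfl
    · exact H.one_mem
    · exact ha
    · exact hb
    · exact hc
    · exact hv
  have hcard : ({1, a, b, c, v} : Finset G).card = 5 := by
    rw [Finset.card_insert_of_notMem, Finset.card_insert_of_notMem,
      Finset.card_insert_of_notMem, Finset.card_insert_of_notMem, Finset.card_singleton]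
    · simp [Ne.symm h4']
    · simp [hbc, Ne.symm h3]
    · simp [hab, hac, Ne.symm h2]
    · simp [Ne.symm ha1, Ne.symm hb1, Ne.symm hc1, Ne.symm h1]
  have h5 := Set.ncard_le_ncard hsub (Set.toFinite _)
  rw [Set.ncard_coe_finset, hcard] at h5
  have h6 : (H : Set G).ncard = Nat.card H := by
    rw [← Nat.card_coe_set_eq]; rfl
  omega

/-- A `J(T)`-component does not normalize `J(T)`. -/
theorem not_le_normalizer_thompson {T K : Subgroup G} (hT : IsPGroup 2 T)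
    (hK : IsJComponent T K) :
    ¬ K ≤ Subgroup.normalizer (thompsonSubgroupOf 2 T : Set G) := by
  intro hle
  have hJ2 : IsPGroup 2 (thompsonSubgroupOf 2 T) :=
    hT.to_le (Cfsg.Agent.Lib.Helper11.thompsonSubgroupOf_le 2 T)
  have hKJ : K ≤ thompsonSubgroupOf 2 T := by
    have h0 : ⁅K, thompsonSubgroupOf 2 T⁆ ≤ thompsonSubgroupOf 2 T := by
      rw [Subgroup.commutator_le]
      intro k hk j hj
      have h1 : k * j * k⁻¹ ∈ thompsonSubgroupOf 2 T :=
        (Subgroup.mem_normalizer_iff.mp (hle hk) j).mp hj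
      rw [commutatorElement_def]
      exact Subgroup.mul_mem _ h1 (Subgroup.inv_mem _ hj)
    rw [hK.2.1] at h0
    exact h0
  have hKbot : K ≤ ⊥ := by
    have h0 : Subgroup.closure {g : G | g ∈ K ∧ Odd (orderOf g)} ≤ ⊥ := by
      rw [Subgroup.closure_le]
      rintro g ⟨hgK, hodd⟩
      obtain ⟨k, hk⟩ := hJ2 ⟨g, hKJ hgK⟩
      have hk' : g ^ 2 ^ k = 1 := by
        have := congrArg Subtype.val hk
        simpa using this
      have hdvd : orderOf g ∣ 2 ^ k := orderOf_dvd_of_pow_eq_one hk'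
      have hcop : Nat.Coprime (orderOf g) (2 ^ k) :=
        (Nat.coprime_two_right.mpr hodd).pow_right k
      have h1 : orderOf g = 1 := Nat.Coprime.eq_one_of_dvd hcop hdvd
      exact Subgroup.mem_bot.mpr (orderOf_eq_one_iff.mp h1)
    rw [hK.1] at h0
    exact h0
  exact Cfsg.Agent.Lib.Helper81.KS12.wOf_ne_bot hK
    (le_bot_iff.mp ((Cfsg.Agent.Lib.Helper81.KS12.wOf_le K).trans hKbot))

/-- `Ω₁(Z(T)) ≤ Ω₁(Z(J(T)))`. -/
theorem omegaCenterOf_le_thompson [Finite G] (T : Subgroup G) :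
    omegaCenterOf T ≤ omegaCenterOf (thompsonSubgroupOf 2 T) := by
  intro z hz
  obtain ⟨hzT, hzc, hz2⟩ := Cfsg.Agent.Lib.Helper71.JC.mem_omegaCenterOf_iff.mp hz
  obtain ⟨A, hA⟩ := Cfsg.Agent.Lib.Helper11.maxElemAbIn_nonempty 2 T
  have hzA : z ∈ A :=
    Cfsg.Agent.Lib.Helper71.JC.mem_of_centralizes_max hA hzT hz2 (fun a ha => hzc a (hA.1 ha))
  exact Cfsg.Agent.Lib.Helper71.JC.mem_omegaCenterOf_iff.mpr
    ⟨Cfsg.Agent.Lib.Helper11.le_thompsonSubgroupOf hA hzA,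
      fun j hj => hzc j (Cfsg.Agent.Lib.Helper11.thompsonSubgroupOf_le 2 T hj), hz2⟩

/-! ### The subgroups `C_{Z₀}(K J)` -/

/-- `Z₀ ∩ Z(⟨K, J(T)⟩)` in the shape of S2946, `Z₀ = Ω₁(Z(J(T)))`. -/
abbrev yOf (T K : Subgroup G) : Subgroup G :=
  omegaCenterOf (thompsonSubgroupOf 2 T) ⊓
    ((K ⊔ thompsonSubgroupOf 2 T) ⊓
      Subgroup.centralizer ((K ⊔ thompsonSubgroupOf 2 T) : Set G))

theorem comm_of_mem_yOf {T K : Subgroup G} {y : G} (hy : y ∈ yOf T K) {k : G}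
    (hk : k ∈ K ⊔ thompsonSubgroupOf 2 T) : k * y = y * k := by
  have h1 := (Subgroup.mem_inf.mp (Subgroup.mem_inf.mp hy).2).2
  rw [Subgroup.mem_centralizer_iff] at h1
  have hle : K ⊔ thompsonSubgroupOf 2 T ≤ Subgroup.centralizer ({y} : Set G) := by
    refine sup_le ?_ ?_
    · intro x hx
      rw [Subgroup.mem_centralizer_iff]
      intro h hh
      rw [Set.mem_singleton_iff] at hh
      subst hh
      exact (h1 x (Or.inl hx)).symm
    · intro x hx
      rw [Subgroup.mem_centralizer_iff]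
      intro h hh
      rw [Set.mem_singleton_iff] at hh
      subst hh
      exact (h1 x (Or.inr hx)).symm
  exact (Subgroup.mem_centralizer_iff.mp (hle hk) y rfl).symm

theorem sq_of_mem_yOf {T K : Subgroup G} {y : G} (hy : y ∈ yOf T K) : y * y = 1 := by
  have h1 := Cfsg.Agent.Lib.Helper2.KS12.omegaCenterOf_sq _ (Subgroup.mem_inf.mp hy).1
  rwa [pow_two] at h1

/-- A nontrivial involution lies... its centralizer lies in a maximal 2-local subgroup. -/
theorem exists_max_of_involution [Finite G] {y : G} (hy1 : y ≠ 1) (hyy : y * y = 1) :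
    ∃ L₃ : Subgroup G, IsMaximalTwoLocal L₃ ∧ ∀ x : G, x * y = y * x → x ∈ L₃ := by
  obtain ⟨L₃, hL₃, hle⟩ := Cfsg.Agent.Lib.Helper81.KS12.exists_isMaximalTwoLocal_ge
    (Cfsg.Agent.Lib.Helper65.isTwoLocal_centralizer hy1 hyy)
  refine ⟨L₃, hL₃, fun x hx => hle ?_⟩
  rw [Subgroup.mem_centralizer_iff]
  intro h hh
  rw [Set.mem_singleton_iff] at hh
  subst hh
  exact hx.symm

/-- Key disjointness: if `L` is the only maximal 2-local subgroup over `⟨K₁, J⟩` and `K₂ ≰ L`,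
then no nontrivial element of `Y_{K₁}` is `L`-conjugate into `Y_{K₂}`. -/
theorem key_disjoint [Finite G] {T K₁ K₂ L : Subgroup G}
    (hLuniq : ∀ L' : Subgroup G, IsMaximalTwoLocal L' → K₁ ⊔ thompsonSubgroupOf 2 T ≤ L' → L' = L)
    (hK₂L : ¬ K₂ ≤ L) {g y : G} (hg : g ∈ L) (hy : y ∈ yOf T K₁)
    (hgy : g * y * g⁻¹ ∈ yOf T K₂) : y = 1 := by
  by_contra hy1
  obtain ⟨L₃, hL₃, hC⟩ := exists_max_of_involution hy1 (sq_of_mem_yOf hy)
  have h1 : K₁ ⊔ thompsonSubgroupOf 2 T ≤ L₃ := fun k hk => hC k (comm_of_mem_yOf hy hk)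
  have h2 := hLuniq L₃ hL₃ h1
  apply hK₂L
  intro k hk
  have h3 := comm_of_mem_yOf hgy (le_sup_left (a := K₂) (b := thompsonSubgroupOf 2 T) hk)
  have h4 : (g⁻¹ * k * g) * y = y * (g⁻¹ * k * g) := by
    have e1 : (g⁻¹ * k * g) * y = g⁻¹ * (k * (g * y * g⁻¹)) * g := by group
    have e2 : y * (g⁻¹ * k * g) = g⁻¹ * ((g * y * g⁻¹) * k) * g := by group
    rw [e1, e2, h3]
  have h5 : g⁻¹ * k * g ∈ L := h2 ▸ hC _ h4
  have e : k = g * (g⁻¹ * k * g) * g⁻¹ := by group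
  rw [e]
  exact L.mul_mem (L.mul_mem hg h5) (L.inv_mem hg)

/-- `Ω₁(Z(S))` is not centralized by a `J(S)`-component (`S` Sylow). -/
theorem not_omegaCenterOf_le_yOf [Finite G]
    (hZ : ∀ S : Sylow 2 G, Subgroup.centralizer (Cfsg.omegaCenterOf (S : Subgroup G) : Set G) ≤
      Subgroup.normalizer ((S : Subgroup G) : Set G))
    (S : Sylow 2 G) {K : Subgroup G} (hK : IsJComponent (S : Subgroup G) K) :
    ¬ omegaCenterOf (S : Subgroup G) ≤ yOf (S : Subgroup G) K := by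
  intro hle
  apply not_le_normalizer_thompson S.isPGroup' hK
  intro k hk
  apply Cfsg.Agent.Lib.Helper11.normalizer_le_normalizer_thompsonSubgroupOf 2 (S : Subgroup G)
  apply hZ S
  rw [Subgroup.mem_centralizer_iff]
  intro z hz
  exact (comm_of_mem_yOf (hle hz)
    (le_sup_left (a := K) (b := thompsonSubgroupOf 2 (S : Subgroup G)) hk)).symm

/-! ### The core: two components with different maximal 2-locals -/

/-- **Core of (f1)+(f2).** `S` Sylow, `K₁`, `K₂` two `J(S)`-components, `L` the only maximal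
2-local subgroup over `⟨K₁, J(S)⟩`, `S ≤ L`, `K₂ ≰ L`.  Then `Ω₁(Z(S)) = Ω₁(Z(J(S)))` has
order 2 or 4. -/
theorem core [Finite G] (hL : IsCharacteristicTwoType G)
    (hN : ∀ N : Subgroup G, IsTwoLocal N → Group.IsSolvable ↥N)
    (hZ : ∀ S : Sylow 2 G, Subgroup.centralizer (Cfsg.omegaCenterOf (S : Subgroup G) : Set G) ≤
      Subgroup.normalizer ((S : Subgroup G) : Set G))
    (S : Sylow 2 G) {K₁ K₂ L : Subgroup G}
    (hK₁ : IsJComponent (S : Subgroup G) K₁) (hK₂ : IsJComponent (S : Subgroup G) K₂)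
    (hLuniq : ∀ L' : Subgroup G, IsMaximalTwoLocal L' →
      K₁ ⊔ thompsonSubgroupOf 2 (S : Subgroup G) ≤ L' → L' = L)
    (hSL : (S : Subgroup G) ≤ L) (hK₂L : ¬ K₂ ≤ L) :
    omegaCenterOf (S : Subgroup G) = omegaCenterOf (thompsonSubgroupOf 2 (S : Subgroup G)) ∧
      (Nat.card ↥(omegaCenterOf (thompsonSubgroupOf 2 (S : Subgroup G))) = 2 ∨
        Nat.card ↥(omegaCenterOf (thompsonSubgroupOf 2 (S : Subgroup G))) = 4) := by
  have : Fact (Nat.Prime 2) := ⟨Nat.prime_two⟩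
  have hS2 : IsPGroup 2 (S : Subgroup G) := S.isPGroup'
  have hS1 : (S : Subgroup G) ≠ ⊥ := Sylow.ne_bot_of_dvd_card S (even_iff_two_dvd.mp hL.1)
  obtain ⟨hc1, hs1⟩ := Cfsg.Agent.S2946.result hL hN hZ (S : Subgroup G) hS2 hS1 K₁ hK₁ _ rfl
  obtain ⟨hc2, hs2⟩ := Cfsg.Agent.S2946.result hL hN hZ (S : Subgroup G) hS2 hS1 K₂ hK₂ _ rfl
  -- abbreviations
  generalize hJ : thompsonSubgroupOf 2 (S : Subgroup G) = J at *
  have hJS : J ≤ (S : Subgroup G) := hJ ▸ Cfsg.Agent.Lib.Helper11.thompsonSubgroupOf_le 2 _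
  have hZle : omegaCenterOf (S : Subgroup G) ≤ omegaCenterOf J := hJ ▸ omegaCenterOf_le_thompson _
  have hZne : omegaCenterOf (S : Subgroup G) ≠ ⊥ :=
    Cfsg.Agent.Lib.Helper47.omegaOne_center_sylow_ne_bot S hS1
  have hSN : (S : Subgroup G) ≤ Subgroup.normalizer (omegaCenterOf J : Set G) := by
    refine le_trans ?_ (Cfsg.Agent.Lib.Helper85.KS12.normalizer_le_normalizer_omegaCenterOf J)
    rw [← hJ]
    exact Subgroup.le_normalizer.trans
      (Cfsg.Agent.Lib.Helper11.normalizer_le_normalizer_thompsonSubgroupOf 2 _)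
  have hY₁ : yOf (S : Subgroup G) K₁ =
      omegaCenterOf J ⊓ ((K₁ ⊔ J) ⊓ Subgroup.centralizer ((K₁ ⊔ J) : Set G)) := by
    rw [← hJ]
  have hY₂ : yOf (S : Subgroup G) K₂ =
      omegaCenterOf J ⊓ ((K₂ ⊔ J) ⊓ Subgroup.centralizer ((K₂ ⊔ J) : Set G)) := by
    rw [← hJ]
  rw [← hY₁] at hs1
  rw [← hY₂] at hs2
  have hY₁le : yOf (S : Subgroup G) K₁ ≤ omegaCenterOf J := hY₁ ▸ inf_le_left
  have hY₂le : yOf (S : Subgroup G) K₂ ≤ omegaCenterOf J := hY₂ ▸ inf_le_left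
  have hcomm : ∀ a ∈ omegaCenterOf J, ∀ b ∈ omegaCenterOf J, a * b = b * a :=
    fun a ha b hb => Cfsg.Agent.Lib.Helper2.KS12.omegaCenterOf_comm J ha hb
  -- disjointness
  have hdisj : ∀ g ∈ L, ∀ y ∈ yOf (S : Subgroup G) K₁, g * y * g⁻¹ ∈ yOf (S : Subgroup G) K₂ →
      y = 1 := by
    intro g hg y hy hgy
    exact key_disjoint (hJ ▸ hLuniq) hK₂L hg hy hgy
  have hinf : yOf (S : Subgroup G) K₁ ⊓ yOf (S : Subgroup G) K₂ = ⊥ := by
    rw [eq_bot_iff]
    intro y hy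
    obtain ⟨h1, h2⟩ := Subgroup.mem_inf.mp hy
    exact Subgroup.mem_bot.mpr (hdisj 1 (one_mem L) y h1 (by simpa using h2))
  -- cardinalities
  have hle1 : Nat.card ↥(omegaCenterOf J) ≤ Nat.card ↥(yOf (S : Subgroup G) K₁) * 2 := by
    have h := Cfsg.Agent.Lib.Helper91.card_sup_mul_card_inf_of_le_normalizer
      (yOf (S : Subgroup G) K₁) (omegaCenterOf J ⊓ wOf K₁)
      (le_normalizer_of_comm (fun a ha b hb => hcomm b (inf_le_left (a := omegaCenterOf J) hb) a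
        (hY₁le ha)))
    rw [hs1, hc1] at h
    have hpos : 0 < Nat.card ↥(yOf (S : Subgroup G) K₁ ⊓ (omegaCenterOf J ⊓ wOf K₁)) :=
      Nat.card_pos
    calc Nat.card ↥(omegaCenterOf J)
        ≤ Nat.card ↥(omegaCenterOf J) *
          Nat.card ↥(yOf (S : Subgroup G) K₁ ⊓ (omegaCenterOf J ⊓ wOf K₁)) :=
          Nat.le_mul_of_pos_right _ hpos
      _ = _ := h
  have hle2 : Nat.card ↥(omegaCenterOf J) ≤ Nat.card ↥(yOf (S : Subgroup G) K₂) * 2 := by
    have h := Cfsg.Agent.Lib.Helper91.card_sup_mul_card_inf_of_le_normalizer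
      (yOf (S : Subgroup G) K₂) (omegaCenterOf J ⊓ wOf K₂)
      (le_normalizer_of_comm (fun a ha b hb => hcomm b (inf_le_left (a := omegaCenterOf J) hb) a
        (hY₂le ha)))
    rw [hs2, hc2] at h
    have hpos : 0 < Nat.card ↥(yOf (S : Subgroup G) K₂ ⊓ (omegaCenterOf J ⊓ wOf K₂)) :=
      Nat.card_pos
    calc Nat.card ↥(omegaCenterOf J)
        ≤ Nat.card ↥(omegaCenterOf J) *
          Nat.card ↥(yOf (S : Subgroup G) K₂ ⊓ (omegaCenterOf J ⊓ wOf K₂)) :=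
          Nat.le_mul_of_pos_right _ hpos
      _ = _ := h
  have hprod : Nat.card ↥(yOf (S : Subgroup G) K₁) * Nat.card ↥(yOf (S : Subgroup G) K₂) ≤
      Nat.card ↥(omegaCenterOf J) := by
    have h := Cfsg.Agent.Lib.Helper91.card_sup_mul_card_inf_of_le_normalizer
      (yOf (S : Subgroup G) K₁) (yOf (S : Subgroup G) K₂)
      (le_normalizer_of_comm (fun a ha b hb => hcomm b (hY₂le hb) a (hY₁le ha)))
    rw [hinf, Subgroup.card_bot, mul_one] at h
    rw [← h]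
    exact Subgroup.card_le_of_le (sup_le hY₁le hY₂le)
  have hp1 : 0 < Nat.card ↥(yOf (S : Subgroup G) K₁) := Nat.card_pos
  have hp2 : 0 < Nat.card ↥(yOf (S : Subgroup G) K₂) := Nat.card_pos
  have hY₁2 : Nat.card ↥(yOf (S : Subgroup G) K₁) ≤ 2 := by
    by_contra hcon
    have : Nat.card ↥(yOf (S : Subgroup G) K₂) * 2 <
        Nat.card ↥(yOf (S : Subgroup G) K₁) * Nat.card ↥(yOf (S : Subgroup G) K₂) := by
      rw [mul_comm (Nat.card ↥(yOf (S : Subgroup G) K₁))]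
      exact Nat.mul_lt_mul_of_pos_left (by omega) hp2
    omega
  have hY₂2 : Nat.card ↥(yOf (S : Subgroup G) K₂) ≤ 2 := by
    by_contra hcon
    have : Nat.card ↥(yOf (S : Subgroup G) K₁) * 2 <
        Nat.card ↥(yOf (S : Subgroup G) K₁) * Nat.card ↥(yOf (S : Subgroup G) K₂) :=
      Nat.mul_lt_mul_of_pos_left (by omega) hp1
    omega
  have hdvd : 2 ∣ Nat.card ↥(omegaCenterOf J) := by
    have h := Subgroup.card_dvd_of_le (inf_le_left : omegaCenterOf J ⊓ wOf K₁ ≤ omegaCenterOf J)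
    rwa [hc1] at h
  have hZ₀pos : 0 < Nat.card ↥(omegaCenterOf J) := Nat.card_pos
  have hcases : Nat.card ↥(omegaCenterOf J) = 2 ∨ Nat.card ↥(omegaCenterOf J) = 4 := by
    obtain ⟨m, hm⟩ := hdvd
    omega
  refine ⟨?_, hcases⟩
  have hZ1 : 1 < Nat.card ↥(omegaCenterOf (S : Subgroup G)) :=
    (Subgroup.one_lt_card_iff_ne_bot _).mpr hZne
  rcases hcases with h2 | h4
  · exact Subgroup.eq_of_le_of_card_ge hZle (by omega)
  · by_contra hne
    have hZ4 : Nat.card ↥(omegaCenterOf (S : Subgroup G)) ≠ 4 := by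
      intro h
      exact hne (Subgroup.eq_of_le_of_card_ge hZle (by omega))
    have hZ2 : Nat.card ↥(omegaCenterOf (S : Subgroup G)) = 2 := by
      have h3 := Subgroup.card_dvd_of_le hZle
      rw [h4] at h3
      have h5 : Nat.card ↥(omegaCenterOf (S : Subgroup G)) ≤ 4 := Nat.le_of_dvd (by norm_num) h3
      have h6 : Nat.card ↥(omegaCenterOf (S : Subgroup G)) ≠ 3 := by
        intro h
        rw [h] at h3
        norm_num at h3
      omega
    have hY₁c : Nat.card ↥(yOf (S : Subgroup G) K₁) = 2 := by omega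
    have hY₂c : Nat.card ↥(yOf (S : Subgroup G) K₂) = 2 := by omega
    obtain ⟨z, hz1, hzu⟩ := (Nat.card_eq_two_iff' (1 : ↥(omegaCenterOf (S : Subgroup G)))).mp hZ2
    obtain ⟨y₁, hy₁1, -⟩ := (Nat.card_eq_two_iff' (1 : ↥(yOf (S : Subgroup G) K₁))).mp hY₁c
    obtain ⟨y₂, hy₂1, -⟩ := (Nat.card_eq_two_iff' (1 : ↥(yOf (S : Subgroup G) K₂))).mp hY₂c
    have hz1' : (z : G) ≠ 1 := fun h => hz1 (Subtype.ext h)
    have hy₁1' : (y₁ : G) ≠ 1 := fun h => hy₁1 (Subtype.ext h)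
    have hy₂1' : (y₂ : G) ≠ 1 := fun h => hy₂1 (Subtype.ext h)
    have hzu' : ∀ x ∈ omegaCenterOf (S : Subgroup G), x ≠ 1 → x = (z : G) := by
      intro x hx hx1
      have := hzu ⟨x, hx⟩ (fun h => hx1 (congrArg Subtype.val h))
      exact congrArg Subtype.val this
    -- the three involutions are distinct
    have hy₁₂ : (y₁ : G) ≠ (y₂ : G) := by
      intro h
      have : (y₁ : G) ∈ yOf (S : Subgroup G) K₁ ⊓ yOf (S : Subgroup G) K₂ :=
        Subgroup.mem_inf.mpr ⟨y₁.2, h ▸ y₂.2⟩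
      rw [hinf] at this
      exact hy₁1' (Subgroup.mem_bot.mp this)
    have hzy₁ : (z : G) ≠ (y₁ : G) := by
      intro h
      apply not_omegaCenterOf_le_yOf hZ S hK₁
      intro x hx
      by_cases hx1 : x = 1
      · rw [hx1]; exact Subgroup.one_mem _
      · rw [hzu' x hx hx1, h]; exact y₁.2
    have hzy₂ : (z : G) ≠ (y₂ : G) := by
      intro h
      apply not_omegaCenterOf_le_yOf hZ S hK₂
      intro x hx
      by_cases hx1 : x = 1
      · rw [hx1]; exact Subgroup.one_mem _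
      · rw [hzu' x hx hx1, h]; exact y₂.2
    -- `S` centralizes `y₁`
    have hcen : ∀ s ∈ (S : Subgroup G), s * (y₁ : G) = (y₁ : G) * s := by
      intro s hs
      have hv : s * (y₁ : G) * s⁻¹ ∈ omegaCenterOf J :=
        (Subgroup.mem_normalizer_iff.mp (hSN hs) _).mp (hY₁le y₁.2)
      have hzc : s * (z : G) * s⁻¹ = (z : G) := by
        obtain ⟨-, hzc, -⟩ := Cfsg.Agent.Lib.Helper71.JC.mem_omegaCenterOf_iff.mp z.2
        rw [hzc s hs, mul_inv_cancel_right]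
      rcases eq_of_card_four h4 (hZle z.2) (hY₁le y₁.2) (hY₂le y₂.2) hz1' hy₁1' hy₂1' hzy₁ hzy₂
        hy₁₂ hv with h | h | h | h
      · exfalso
        apply hy₁1'
        have e : (y₁ : G) = s⁻¹ * (s * (y₁ : G) * s⁻¹) * s := by group
        rw [e, h]; group
      · exfalso
        apply hzy₁
        have e : s * (y₁ : G) * s⁻¹ = s * (z : G) * s⁻¹ := h.trans hzc.symm
        exact (mul_left_cancel (mul_right_cancel e)).symm
      · calc s * (y₁ : G) = (s * (y₁ : G) * s⁻¹) * s := by group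
          _ = (y₁ : G) * s := by rw [h]
      · exfalso
        exact hy₁1' (hdisj s (hSL hs) y₁ y₁.2 (h ▸ y₂.2))
    have hy₁Z : (y₁ : G) ∈ omegaCenterOf (S : Subgroup G) := by
      refine Cfsg.Agent.Lib.Helper71.JC.mem_omegaCenterOf_iff.mpr
        ⟨hJS (Cfsg.Agent.Lib.Helper2.KS12.omegaCenterOf_le J (hY₁le y₁.2)), hcen, ?_⟩
      exact Cfsg.Agent.Lib.Helper2.KS12.omegaCenterOf_sq J (hY₁le y₁.2)
    exact hzy₁ (hzu' _ hy₁Z hy₁1').symm

/-! ### A Sylow 2-subgroup is a maximal straddling subgroup of `N_G(J(S))` -/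

theorem maxElemAbelianOrder_map_conj [Finite G] (T : Subgroup G) (n : G) :
    maxElemAbelianOrder (T.map (MulAut.conj n).toMonoidHom) = maxElemAbelianOrder T := by
  obtain ⟨A, hA⟩ := Cfsg.Agent.Lib.Helper11.maxElemAbIn_nonempty 2 T
  have hA' : A.map (MulAut.conj n).toMonoidHom ∈
      Cfsg.Agent.Lib.Helper11.maxElemAbIn 2 (T.map (MulAut.conj n).toMonoidHom) := by
    rw [Cfsg.Agent.Lib.Helper11.maxElemAbIn_map 2 _ (MulAut.conj n).injective]
    exact ⟨A, hA, rfl⟩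
  rw [Cfsg.Agent.Lib.Helper97.KS12.maxElemAbelianOrder_eq hA,
    Cfsg.Agent.Lib.Helper97.KS12.maxElemAbelianOrder_eq hA',
    Subgroup.card_map_of_injective (MulAut.conj n).injective]

theorem isSylowTwoIn_of_sylow_le [Finite G] (S : Sylow 2 G) {L : Subgroup G}
    (hSL : (S : Subgroup G) ≤ L) : IsSylowTwoIn (S : Subgroup G) L := by
  have : Fact (Nat.Prime 2) := ⟨Nat.prime_two⟩
  refine ⟨hSL, S.isPGroup', ?_⟩
  have h1 : ¬ 2 ∣ (S : Subgroup G).index := S.not_dvd_index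
  have h2 := Subgroup.relIndex_mul_index hSL
  rw [← Nat.not_even_iff_odd, even_iff_two_dvd]
  intro h
  exact h1 (h2 ▸ Dvd.dvd.mul_right h _)

/-- For a Sylow 2-subgroup `S` of `G` contained in a 2-local subgroup not inside
`N_G(J(S))`, `S` is a maximal straddling 2-subgroup of `N_G(J(S))`. -/
theorem sylow_mem_maxStraddling [Finite G] (S : Sylow 2 G) (hS1 : (S : Subgroup G) ≠ ⊥)
    {L' : Subgroup G} (hL' : IsTwoLocal L') (hSL' : (S : Subgroup G) ≤ L')
    (hL'N : ¬ L' ≤ Subgroup.normalizer (thompsonSubgroupOf 2 (S : Subgroup G) : Set G)) :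
    (S : Subgroup G) ∈ maxStraddlingTwoSubgroups
      (Subgroup.normalizer (thompsonSubgroupOf 2 (S : Subgroup G) : Set G)) := by
  have : Fact (Nat.Prime 2) := ⟨Nat.prime_two⟩
  have hSN : (S : Subgroup G) ≤
      Subgroup.normalizer (thompsonSubgroupOf 2 (S : Subgroup G) : Set G) :=
    Subgroup.le_normalizer.trans
      (Cfsg.Agent.Lib.Helper11.normalizer_le_normalizer_thompsonSubgroupOf 2 _)
  refine ⟨⟨S.isPGroup', hS1, hSN, L', hL', hSL', hL'N⟩, fun T hT => ?_⟩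
  obtain ⟨hT2, -, -, -⟩ := hT
  obtain ⟨n, hn⟩ := Cfsg.Agent.Lib.Helper53.exists_conj_le_sylow S hT2
  have hT'S : T.map (MulAut.conj n).toMonoidHom ≤ (S : Subgroup G) := by
    rintro _ ⟨q, hq, rfl⟩
    exact hn q hq
  have hJT' : thompsonSubgroupOf 2 (T.map (MulAut.conj n).toMonoidHom) ≤ (S : Subgroup G) :=
    (Cfsg.Agent.Lib.Helper11.thompsonSubgroupOf_le 2 _).trans hT'S
  have ha : maxElemAbelianOrder T ≤ maxElemAbelianOrder (S : Subgroup G) := by
    rw [← maxElemAbelianOrder_map_conj T n]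
    exact Cfsg.Agent.Lib.Helper97.KS12.maxElemAbelianOrder_le_of_thompson_le hJT'
  refine ⟨ha, fun heq => ?_⟩
  have hJle : thompsonSubgroupOf 2 (T.map (MulAut.conj n).toMonoidHom) ≤
      thompsonSubgroupOf 2 (S : Subgroup G) :=
    Cfsg.Agent.Lib.Helper97.KS12.thompson_le_thompson_of_le hJT'
      (by rw [maxElemAbelianOrder_map_conj, heq])
  have hcJ : Nat.card (thompsonSubgroupOf 2 T) ≤
      Nat.card (thompsonSubgroupOf 2 (S : Subgroup G)) := by
    have h := Subgroup.card_le_of_le hJle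
    rwa [Cfsg.Agent.Lib.Helper11.thompsonSubgroupOf_map 2 _ (MulAut.conj n).injective,
      Subgroup.card_map_of_injective (MulAut.conj n).injective] at h
  refine ⟨hcJ, fun _ => ?_⟩
  have h := Subgroup.card_le_of_le hT'S
  rwa [Subgroup.card_map_of_injective (MulAut.conj n).injective] at h

/-- Every `J(S)`-component `K` (`S` Sylow) with `O₂(⟨K, S⟩) ≠ 1` belongs to
`jComponentsOutside (N_G(J(S))) S`. -/
theorem mem_jComponentsOutside [Finite G] (S : Sylow 2 G) {K : Subgroup G}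
    (hK : IsJComponent (S : Subgroup G) K) (hKS : pCoreOf 2 (K ⊔ (S : Subgroup G)) ≠ ⊥) :
    K ∈ jComponentsOutside
      (Subgroup.normalizer (thompsonSubgroupOf 2 (S : Subgroup G) : Set G)) (S : Subgroup G) := by
  have : Fact (Nat.Prime 2) := ⟨Nat.prime_two⟩
  refine ⟨⟨hK, fun S' hJS' hS' => ?_⟩, not_le_normalizer_thompson S.isPGroup' hK, hKS⟩
  exact Cfsg.Agent.Lib.Helper11.thompsonSubgroupOf_eq_of_le_pGroup S hS'.2.1 hJS'

/-! ### (V5): the case where `L` is not the only maximal 2-local subgroup over `S` -/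

/-- **(V5) = (f1)+(f2).**  `S` a Sylow 2-subgroup, `K` a `J(S)`-component with
`O₂(⟨K, S⟩) ≠ 1`, `L` a maximal 2-local subgroup containing `⟨K, J(S)⟩`.  If some 2-local
subgroup `N ≥ S` is not contained in `L`, then `Ω₁(Z(S)) = Ω₁(Z(J(S)))` has order 2 or 4. -/
theorem v5 [Finite G] (hL : IsCharacteristicTwoType G)
    (hN : ∀ N : Subgroup G, IsTwoLocal N → Group.IsSolvable ↥N)
    (hZ : ∀ S : Sylow 2 G, Subgroup.centralizer (Cfsg.omegaCenterOf (S : Subgroup G) : Set G) ≤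
      Subgroup.normalizer ((S : Subgroup G) : Set G))
    (hO : Cfsg.pCore 2 G = ⊥)
    (h2950 : type_of% (@Cfsg.CfsgFrozen.S2950 G _ _ hL hN hZ hO))
    (S : Sylow 2 G) (K L : Subgroup G) (hK : IsJComponent (S : Subgroup G) K)
    (hKS : pCoreOf 2 (K ⊔ (S : Subgroup G)) ≠ ⊥)
    (hLmax : IsMaximalTwoLocal L) (hKL : K ⊔ thompsonSubgroupOf 2 (S : Subgroup G) ≤ L)
    (N : Subgroup G) (hN2 : IsTwoLocal N) (hSN : (S : Subgroup G) ≤ N) (hNL : ¬ N ≤ L) :
    omegaCenterOf (S : Subgroup G) = omegaCenterOf (thompsonSubgroupOf 2 (S : Subgroup G)) ∧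
      (Nat.card ↥(omegaCenterOf (thompsonSubgroupOf 2 (S : Subgroup G))) = 2 ∨
        Nat.card ↥(omegaCenterOf (thompsonSubgroupOf 2 (S : Subgroup G))) = 4) := by
  have : Fact (Nat.Prime 2) := ⟨Nat.prime_two⟩
  have hS2 : IsPGroup 2 (S : Subgroup G) := S.isPGroup'
  have hS1 : (S : Subgroup G) ≠ ⊥ := Sylow.ne_bot_of_dvd_card S (even_iff_two_dvd.mp hL.1)
  have hJS := Cfsg.Agent.Lib.Helper11.thompsonSubgroupOf_le 2 (S : Subgroup G)
  have hJne : thompsonSubgroupOf 2 (S : Subgroup G) ≠ ⊥ :=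
    Cfsg.Agent.Lib.Helper91.thompsonSubgroupOf_ne_bot _ hS2 hS1
  have hN0 : IsTwoLocal (Subgroup.normalizer (thompsonSubgroupOf 2 (S : Subgroup G) : Set G)) :=
    ⟨_, hS2.to_le hJS, hJne, rfl⟩
  have hKN0 := not_le_normalizer_thompson hS2 hK
  have hSmax : (S : Subgroup G) ∈ maxStraddlingTwoSubgroups
      (Subgroup.normalizer (thompsonSubgroupOf 2 (S : Subgroup G) : Set G)) := by
    refine sylow_mem_maxStraddling S hS1
      (L' := Subgroup.normalizer (pCoreOf 2 (K ⊔ (S : Subgroup G)) : Set G))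
      ⟨_, Cfsg.Agent.Lib.Helper47.pCoreOf_isPGroup 2 _, hKS, rfl⟩
      (le_sup_right.trans (Cfsg.Agent.Lib.Helper47.le_normalizer_pCoreOf 2 _)) ?_
    intro hle
    exact hKN0 ((le_sup_left.trans (Cfsg.Agent.Lib.Helper47.le_normalizer_pCoreOf 2 _)).trans hle)
  obtain ⟨L₁, hL₁max, hKL₁, hL₁uniq, -, hSL₁⟩ :=
    h2950 S _ hN0 le_rfl _ hSmax K (mem_jComponentsOutside S hK hKS)
  have hLL₁ : L = L₁ := hL₁uniq L hLmax hKL
  subst hLL₁
  have hSL : (S : Subgroup G) ≤ L := hSL₁.1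
  obtain ⟨L₂, hL₂max, hNL₂⟩ := Cfsg.Agent.Lib.Helper81.KS12.exists_isMaximalTwoLocal_ge hN2
  have hL₂L : ¬ L₂ ≤ L := fun hle => hNL (hNL₂.trans hle)
  have hSL₂ : (S : Subgroup G) ≤ L₂ := hSN.trans hNL₂
  by_cases hJQ : thompsonSubgroupOf 2 (S : Subgroup G) ≤ pCoreOf 2 L₂
  · -- (f1): `L₂ ≤ N_G(J(S))`, conjugate `K` by an element of `L₂ \ L`
    have hL₂N0 : L₂ ≤ Subgroup.normalizer (thompsonSubgroupOf 2 (S : Subgroup G) : Set G) := by
      have h1 := Cfsg.Agent.Lib.Helper47.le_normalizer_pCoreOf 2 L₂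
      have h2 := Cfsg.Agent.Lib.Helper11.normalizer_le_normalizer_thompsonSubgroupOf 2
        (pCoreOf 2 L₂)
      rw [Cfsg.Agent.Lib.Helper11.thompsonSubgroupOf_eq_of_le_pGroup S
        (Cfsg.Agent.Lib.Helper47.pCoreOf_isPGroup 2 L₂) hJQ] at h2
      exact h1.trans h2
    obtain ⟨x, hxL₂, hxL⟩ := SetLike.not_le_iff_exists.mp hL₂L
    have hxN0 := hL₂N0 hxL₂
    have hK₂ := Cfsg.Agent.Lib.Helper81.KS12.isJComponent_map_conj hK hxN0
    refine core hL hN hZ S hK hK₂ hL₁uniq hSL ?_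
    intro hle
    have h3 : K ⊔ thompsonSubgroupOf 2 (S : Subgroup G) ≤
        L.map (MulAut.conj x⁻¹).toMonoidHom := by
      refine sup_le ?_ ?_
      · intro k hk
        rw [Cfsg.Agent.Lib.Helper11.mem_map_conj_iff', inv_inv]
        exact hle ⟨k, hk, rfl⟩
      · intro j hj
        rw [Cfsg.Agent.Lib.Helper11.mem_map_conj_iff', inv_inv]
        exact hSL (hJS ((Subgroup.mem_normalizer_iff.mp hxN0 j).mp hj))
    have h4 := hL₁uniq _ (isMaximalTwoLocal_map_conj hLmax x⁻¹) h3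
    have h5 := mem_of_map_conj_eq hLmax h4
    exact hxL (by simpa using L.inv_mem h5)
  · -- (f2): `L₂ ∈ jOvergroups S` contains a `J(S)`-component `K₂`, and `L₂` is its only
    -- maximal 2-local overgroup
    have hL₂N0 : ¬ L₂ ≤ Subgroup.normalizer (thompsonSubgroupOf 2 (S : Subgroup G) : Set G) := by
      intro hle
      apply hJQ
      exact Cfsg.Agent.Lib.Helper85.KS12.le_pCoreOf_of_normal (hS2.to_le hJS) (hJS.trans hSL₂) hle
    have hSyl : IsSylowTwoIn (S : Subgroup G) L₂ := isSylowTwoIn_of_sylow_le S hSL₂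
    have hjO : L₂ ∈ jOvergroups (S : Subgroup G) :=
      (Cfsg.Agent.S2948.result hL hN hZ hO S _ hN0 le_rfl _ hSmax L₂ hL₂max.1 hL₂N0 _ hSyl
        hJS).2.2.1
    obtain ⟨K₂, hK₂, hK₂L₂⟩ := Cfsg.Agent.Lib.Helper11.KS12.exists_jComponent hN hZ hS1 hjO
    have hK₂S : pCoreOf 2 (K₂ ⊔ (S : Subgroup G)) ≠ ⊥ := by
      have hQ : pCoreOf 2 L₂ ≤ pCoreOf 2 (K₂ ⊔ (S : Subgroup G)) := by
        apply Cfsg.Agent.Lib.Helper85.KS12.le_pCoreOf_of_normal
          (Cfsg.Agent.Lib.Helper47.pCoreOf_isPGroup 2 L₂)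
        · exact (Cfsg.Agent.Lib.Helper2.KS12.pCoreOf_le_of_isSylowTwoIn hSyl).trans le_sup_right
        · exact (sup_le hK₂L₂ hSL₂).trans (Cfsg.Agent.Lib.Helper47.le_normalizer_pCoreOf 2 L₂)
      intro h
      exact pCoreOf_ne_bot_of_isTwoLocal hL₂max.1 (le_bot_iff.mp (h ▸ hQ))
    obtain ⟨L₃, hL₃max, hKL₃, hL₃uniq, -, -⟩ :=
      h2950 S _ hN0 le_rfl _ hSmax K₂ (mem_jComponentsOutside S hK₂ hK₂S)
    have hL₂3 : L₂ = L₃ := hL₃uniq L₂ hL₂max (sup_le hK₂L₂ (hJS.trans hSL₂))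
    refine core hL hN hZ S hK hK₂ hL₁uniq hSL ?_
    intro hle
    have hLL₃ : L = L₃ := hL₃uniq L hLmax (sup_le hle (hJS.trans hSL))
    exact hL₂L (by rw [hL₂3, ← hLL₃])

/-- (V5) in the shape of the conclusion of S2951, for `T = S`: if some 2-local subgroup
containing `S` is not contained in `L`, the conclusion of S2951 holds (alternative 1 or 2). -/
theorem s2951_of_eq_of_twoLocal [Finite G] (hL : IsCharacteristicTwoType G)
    (hN : ∀ N : Subgroup G, IsTwoLocal N → Group.IsSolvable ↥N)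
    (hZ : ∀ S : Sylow 2 G, Subgroup.centralizer (Cfsg.omegaCenterOf (S : Subgroup G) : Set G) ≤
      Subgroup.normalizer ((S : Subgroup G) : Set G))
    (hO : Cfsg.pCore 2 G = ⊥)
    (h2950 : type_of% (@Cfsg.CfsgFrozen.S2950 G _ _ hL hN hZ hO))
    (S : Sylow 2 G) (M : Subgroup G) (T : Subgroup G) (hTS : T = (S : Subgroup G))
    (K : Subgroup G) (hK : K ∈ jComponentsOutside M T)
    (L : Subgroup G) (hLmax : IsMaximalTwoLocal L) (hKL : K ⊔ thompsonSubgroupOf 2 T ≤ L)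
    (Z Z₀ : Subgroup G) (hZdef : Z = omegaCenterOf (S : Subgroup G))
    (hZ₀ : Z₀ = omegaCenterOf (thompsonSubgroupOf 2 T))
    (N : Subgroup G) (hN2 : IsTwoLocal N) (hSN : (S : Subgroup G) ≤ N) (hNL : ¬ N ≤ L) :
    Z₀ ⊓ wOf K ≠ ⊥ ∧
      ((Z = Z₀ ∧ Nat.card ↥Z₀ = 2) ∨ (Z = Z₀ ∧ Nat.card ↥Z₀ = 4 ∧ T = (S : Subgroup G)) ∨
        (omegaCenterOf T = Z₀ ∧ Nat.card ↥Z₀ = 4 ∧
          (L ⊓ Subgroup.centralizer (Z₀ : Set G)).relIndex
            (Subgroup.normalizer (Z₀ : Set G)) = 2)) := by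
  subst hTS hZdef hZ₀
  have : Fact (Nat.Prime 2) := ⟨Nat.prime_two⟩
  have hS1 : (S : Subgroup G) ≠ ⊥ := Sylow.ne_bot_of_dvd_card S (even_iff_two_dvd.mp hL.1)
  obtain ⟨h1, h2⟩ := v5 hL hN hZ hO h2950 S K L hK.1.1 hK.2.2 hLmax hKL N hN2 hSN hNL
  obtain ⟨hc, -⟩ := Cfsg.Agent.S2946.result hL hN hZ (S : Subgroup G) S.isPGroup' hS1 K hK.1.1
    _ rfl
  refine ⟨?_, ?_⟩
  · intro h
    rw [h, Subgroup.card_bot] at hc
    norm_num at hc
  · rcases h2 with h2 | h4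
    · exact Or.inl ⟨h1, h2⟩
    · exact Or.inr (Or.inl ⟨h1, h4, rfl⟩)

/-- The same with the hypothesis "not (U)": `L` is not the only maximal 2-local over `S`. -/
theorem s2951_of_eq_of_not_U [Finite G] (hL : IsCharacteristicTwoType G)
    (hN : ∀ N : Subgroup G, IsTwoLocal N → Group.IsSolvable ↥N)
    (hZ : ∀ S : Sylow 2 G, Subgroup.centralizer (Cfsg.omegaCenterOf (S : Subgroup G) : Set G) ≤
      Subgroup.normalizer ((S : Subgroup G) : Set G))
    (hO : Cfsg.pCore 2 G = ⊥)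
    (h2950 : type_of% (@Cfsg.CfsgFrozen.S2950 G _ _ hL hN hZ hO))
    (S : Sylow 2 G) (M : Subgroup G) (T : Subgroup G) (hTS : T = (S : Subgroup G))
    (K : Subgroup G) (hK : K ∈ jComponentsOutside M T)
    (L : Subgroup G) (hLmax : IsMaximalTwoLocal L) (hKL : K ⊔ thompsonSubgroupOf 2 T ≤ L)
    (Z Z₀ : Subgroup G) (hZdef : Z = omegaCenterOf (S : Subgroup G))
    (hZ₀ : Z₀ = omegaCenterOf (thompsonSubgroupOf 2 T))
    (hU : ¬ ∀ N : Subgroup G, IsTwoLocal N → (S : Subgroup G) ≤ N → N ≤ L) :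
    Z₀ ⊓ wOf K ≠ ⊥ ∧
      ((Z = Z₀ ∧ Nat.card ↥Z₀ = 2) ∨ (Z = Z₀ ∧ Nat.card ↥Z₀ = 4 ∧ T = (S : Subgroup G)) ∨
        (omegaCenterOf T = Z₀ ∧ Nat.card ↥Z₀ = 4 ∧
          (L ⊓ Subgroup.centralizer (Z₀ : Set G)).relIndex
            (Subgroup.normalizer (Z₀ : Set G)) = 2)) := by
  push Not at hU
  obtain ⟨N, hN2, hSN, hNL⟩ := hU
  exact s2951_of_eq_of_twoLocal hL hN hZ hO h2950 S M T hTS K hK L hLmax hKL Z Z₀ hZdef hZ₀
    N hN2 hSN hNL

end Cfsg.Agent.Lib.Helper23.KS12
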