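import Mathlib
import Cfsg.Prelude.Def_JComponents
import Cfsg.Agent.S2950
import Cfsg.Agent.S2952
import Cfsg.Agent.Lib.Helper97.KS12.S2944Key
import Cfsg.Agent.Lib.Helper2.KS12.PZ

/-!
# S2953, package (G), the `L`-part

For `K ∈ jComponentsOutside M T` (in the standing KS12 set-up) and `P = K ⊔ T`: `T` is a 2-group normalizing
`K`, `T` is a Sylow 2-subgroup of `P`, `C_G(O₂(P)) ≤ O₂(P)`, and `P` lies in exactly one maximal 2-local
subgroup `L`, in which `T` is a Sylow 2-subgroup. Everything comes from S2950 and S2952.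
-/

set_option autoImplicit false

open Cfsg Subgroup

namespace Cfsg.Agent.Lib.Helper23.KS12

universe u
variable {G : Type u} [Group G]

theorem thompsonSubgroupOf_le_self (T : Subgroup G) : thompsonSubgroupOf 2 T ≤ T := by
  rintro _ ⟨x, -, rfl⟩
  exact x.2

/-- The `L`-part of package (G). -/
theorem genP_L [Finite G] (hL : IsCharacteristicTwoType G)
    (hN : ∀ N : Subgroup G, IsTwoLocal N → Group.IsSolvable ↥N)
    (hZ : ∀ S : Sylow 2 G, centralizer (omegaCenterOf (S : Subgroup G) : Set G) ≤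
      normalizer ((S : Subgroup G) : Set G))
    (hO : pCore 2 G = ⊥) (S : Sylow 2 G) (M : Subgroup G) (hM : IsTwoLocal M)
    (hMJ : normalizer (thompsonSubgroupOf 2 (S : Subgroup G) : Set G) ≤ M) (T : Subgroup G)
    (hT : T ∈ maxStraddlingTwoSubgroups M) (K : Subgroup G) (hK : K ∈ jComponentsOutside M T) :
    IsPGroup 2 ↥T ∧ IsJComponent T K ∧ T ≤ normalizer (K : Set G) ∧
    centralizer (pCoreOf 2 (K ⊔ T) : Set G) ≤ pCoreOf 2 (K ⊔ T) ∧ IsSylowTwoIn T (K ⊔ T) ∧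
    ∃ L : Subgroup G, IsMaximalTwoLocal L ∧ K ⊔ T ≤ L ∧ IsSylowTwoIn T L ∧
      (∀ L' : Subgroup G, IsMaximalTwoLocal L' → K ⊔ T ≤ L' → L' = L) ∧
      (∀ L' : Subgroup G, IsMaximalTwoLocal L' → K ⊔ thompsonSubgroupOf 2 T ≤ L' → L' = L) ∧
      (K.subgroupOf L).IsSubnormal := by
  haveI : Fact (Nat.Prime 2) := ⟨Nat.prime_two⟩
  obtain ⟨L, hLmax, hKJL, hLuniq, hKsub, hTL⟩ :=
    Cfsg.Agent.S2950.result hL hN hZ hO S M hM hMJ T hT K hK
  have h2952 := Cfsg.Agent.S2952.result hL hN hZ hO S M hM hMJ T hT K hK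
  have hPN : K ⊔ T ≤ normalizer (K : Set G) :=
    (Subgroup.normal_subgroupOf_iff_le_normalizer le_sup_left).mp h2952
  have hT2 : IsPGroup 2 ↥T := hT.1.1
  have hPL : K ⊔ T ≤ L := sup_le (le_sup_left.trans hKJL) hTL.1
  have hJP : K ⊔ thompsonSubgroupOf 2 T ≤ K ⊔ T :=
    sup_le_sup_left (thompsonSubgroupOf_le_self T) K
  have hTP : IsSylowTwoIn T (K ⊔ T) := by
    refine ⟨le_sup_right, hT2, ?_⟩
    have hmul := Subgroup.relIndex_mul_relIndex T (K ⊔ T) L le_sup_right hPL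
    have hodd := hTL.2.2
    rw [← hmul] at hodd
    exact (Nat.odd_mul.mp hodd).1
  have hOL : pCoreOf 2 L ≤ pCoreOf 2 (K ⊔ T) :=
    Cfsg.Agent.Lib.Helper47.le_pCoreOf_of_le_normalizer
      (Cfsg.Agent.Lib.Helper47.pCoreOf_isPGroup 2 L)
      ((Cfsg.Agent.Lib.Helper2.KS12.pCoreOf_le_of_isSylowTwoIn hTL).trans le_sup_right)
      (hPL.trans (Cfsg.Agent.Lib.Helper47.le_normalizer_pCoreOf 2 L))
  have hcent : centralizer (pCoreOf 2 (K ⊔ T) : Set G) ≤ pCoreOf 2 (K ⊔ T) :=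
    ((Subgroup.centralizer_le (show (pCoreOf 2 L : Set G) ⊆ pCoreOf 2 (K ⊔ T) from hOL)).trans
      (Cfsg.Agent.Lib.Helper97.KS12.centralizer_pCoreOf_le_of_isTwoLocal hL hLmax.1)).trans hOL
  exact ⟨hT2, hK.1.1, le_sup_right.trans hPN, hcent, hTP, L, hLmax, hPL, hTL,
    fun L' hL' hPL' => hLuniq L' hL' (hJP.trans hPL'), hLuniq, hKsub⟩

/-- Package (G) from the `L`-part and the three "pure" clauses. -/
theorem genP_of_core [Finite G] (hL : IsCharacteristicTwoType G)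
    (hN : ∀ N : Subgroup G, IsTwoLocal N → Group.IsSolvable ↥N)
    (hZ : ∀ S : Sylow 2 G, centralizer (omegaCenterOf (S : Subgroup G) : Set G) ≤
      normalizer ((S : Subgroup G) : Set G))
    (hO : pCore 2 G = ⊥) (S : Sylow 2 G) (M : Subgroup G) (hM : IsTwoLocal M)
    (hMJ : normalizer (thompsonSubgroupOf 2 (S : Subgroup G) : Set G) ≤ M) (T : Subgroup G)
    (hT : T ∈ maxStraddlingTwoSubgroups M) (K : Subgroup G) (hK : K ∈ jComponentsOutside M T)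
    (h3 : (pCoreOf 2 (K ⊔ T)).relIndex (K ⊔ T) = 6)
    (h4 : ¬ ⁅K ⊔ T, K ⊔ T⁆ ≤ pCoreOf 2 (K ⊔ T))
    (h5 : ⁅omegaCenterOf T, K ⊔ T⁆ ≠ ⊥) :
    centralizer (pCoreOf 2 (K ⊔ T) : Set G) ≤ pCoreOf 2 (K ⊔ T) ∧ IsSylowTwoIn T (K ⊔ T) ∧
    (pCoreOf 2 (K ⊔ T)).relIndex (K ⊔ T) = 6 ∧ ¬ ⁅K ⊔ T, K ⊔ T⁆ ≤ pCoreOf 2 (K ⊔ T) ∧
    ⁅omegaCenterOf T, K ⊔ T⁆ ≠ ⊥ ∧
    ∃ L : Subgroup G, IsMaximalTwoLocal L ∧ K ⊔ T ≤ L ∧ IsSylowTwoIn T L ∧
      ∀ L' : Subgroup G, IsMaximalTwoLocal L' → K ⊔ T ≤ L' → L' = L := by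
  obtain ⟨-, -, -, hcent, hTP, L, hLmax, hPL, hTL, huniq, -, -⟩ :=
    genP_L hL hN hZ hO S M hM hMJ T hT K hK
  exact ⟨hcent, hTP, h3, h4, h5, L, hLmax, hPL, hTL, huniq⟩

end Cfsg.Agent.Lib.Helper23.KS12
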