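import Mathlib
import Cfsg.Prelude.Def_JComponents
import Cfsg.Agent.Lib.Helper23.KS12.GenPL
import Cfsg.Agent.Lib.Helper54.KS12.SupCore

/-!
# S2953, package (G), closed form

For `K ∈ jComponentsOutside M T` (in the standing KS12 set-up), `P = K ⊔ T` has the six per-`P` properties
of the frozen statement S2953: `genP` (= `genP_L` of `GenPL.lean` + helper54's `SupCore`).
-/

set_option autoImplicit false

open Cfsg Subgroup

namespace Cfsg.Agent.Lib.Helper23.KS12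

universe u
variable {G : Type u} [Group G]

/-- Package (G) for S2953: the generic properties of `P = K ⊔ T` for `K ∈ jComponentsOutside M T`. -/
theorem genP [Finite G] (hL : IsCharacteristicTwoType G)
    (hN : ∀ N : Subgroup G, IsTwoLocal N → Group.IsSolvable ↥N)
    (hZ : ∀ S : Sylow 2 G, centralizer (omegaCenterOf (S : Subgroup G) : Set G) ≤
      normalizer ((S : Subgroup G) : Set G))
    (hO : pCore 2 G = ⊥) (S : Sylow 2 G) (M : Subgroup G) (hM : IsTwoLocal M)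
    (hMJ : normalizer (thompsonSubgroupOf 2 (S : Subgroup G) : Set G) ≤ M) (T : Subgroup G)
    (hT : T ∈ maxStraddlingTwoSubgroups M) (K : Subgroup G) (hK : K ∈ jComponentsOutside M T) :
    centralizer (pCoreOf 2 (K ⊔ T) : Set G) ≤ pCoreOf 2 (K ⊔ T) ∧ IsSylowTwoIn T (K ⊔ T) ∧
    (pCoreOf 2 (K ⊔ T)).relIndex (K ⊔ T) = 6 ∧ ¬ ⁅K ⊔ T, K ⊔ T⁆ ≤ pCoreOf 2 (K ⊔ T) ∧
    ⁅omegaCenterOf T, K ⊔ T⁆ ≠ ⊥ ∧
    ∃ L : Subgroup G, IsMaximalTwoLocal L ∧ K ⊔ T ≤ L ∧ IsSylowTwoIn T L ∧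
      ∀ L' : Subgroup G, IsMaximalTwoLocal L' → K ⊔ T ≤ L' → L' = L := by
  obtain ⟨-, hKJ, hTK, -, hTP, -⟩ := genP_L hL hN hZ hO S M hM hMJ T hT K hK
  obtain ⟨h3, h4, h5⟩ := Cfsg.Agent.Lib.Helper54.KS12.sup_core hKJ hTK hTP
  exact genP_of_core hL hN hZ hO S M hM hMJ T hT K hK h3 h4 h5

end Cfsg.Agent.Lib.Helper23.KS12
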